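import Groth.Agent.H80.BE.Split
import Groth.Agent.Lib.QDepth.Local

/-!
# Depth of the cokernels in a complex of finite free modules
-/

set_option autoImplicit false
set_option backward.isDefEq.respectTransparency false
universe u

open Matrix IsLocalRing LocCoh
open Groth.Agent.Lib.Depth
open Groth.Agent.H80.BE.Split

namespace Groth.Agent.H80.BE.Depth

variable {B : Type u} [CommRing B]

/-- The image in degree `k` of a complex of length `e`. -/
noncomputable def im (e : ℕ) {n : ℕ → ℕ} (A : (i : ℕ) → Matrix (Fin (n i)) (Fin (n (i + 1))) B)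
    (k : ℕ) : Submodule B (Fin (n k) → B) :=
  if k < e then LinearMap.range (A k).mulVecLin else ⊥

lemma im_lt {e : ℕ} {n : ℕ → ℕ} (A : (i : ℕ) → Matrix (Fin (n i)) (Fin (n (i + 1))) B)
    {k : ℕ} (hk : k < e) : im e A k = LinearMap.range (A k).mulVecLin := if_pos hk

lemma im_ge {e : ℕ} {n : ℕ → ℕ} (A : (i : ℕ) → Matrix (Fin (n i)) (Fin (n (i + 1))) B)
    {k : ℕ} (hk : e ≤ k) : im e A k = ⊥ := if_neg (by omega)

lemma im_le_ker {e : ℕ} {n : ℕ → ℕ} (A : (i : ℕ) → Matrix (Fin (n i)) (Fin (n (i + 1))) B)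
    (hA : ∀ i, i + 2 ≤ e → A i * A (i + 1) = 0) (i : ℕ) :
    im e A (i + 1) ≤ LinearMap.ker (A i).mulVecLin := by
  by_cases h : i + 1 < e
  · rw [im_lt A h]
    rintro _ ⟨x, rfl⟩
    rw [LinearMap.mem_ker, Matrix.mulVecLin_apply, Matrix.mulVecLin_apply, Matrix.mulVec_mulVec,
      hA i (by omega), Matrix.zero_mulVec]
  · rw [im_ge A (by omega)]
    exact bot_le

lemma ker_le_im_of_split {e : ℕ} {n : ℕ → ℕ}
    (A : (i : ℕ) → Matrix (Fin (n i)) (Fin (n (i + 1))) B)
    (hA : ∀ i, i + 2 ≤ e → A i * A (i + 1) = 0) (r : ℕ → ℕ) (hre : r e = 0)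
    (hsum : ∀ i, i < e → r i + r (i + 1) = n (i + 1)) {i : ℕ} (hi : i < e)
    (h : SplitRank (A i) (r i)) (h' : i + 1 < e → SplitRank (A (i + 1)) (r (i + 1))) :
    LinearMap.ker (A i).mulVecLin ≤ im e A (i + 1) := by
  by_cases hlt : i + 1 < e
  · rw [im_lt A hlt]
    exact ker_le_range h (h' hlt) (hsum i hi) (hA i (by omega))
  · rw [im_ge A (by omega)]
    obtain rfl : e = i + 1 := by omega
    have hr : r i + 0 = n (i + 1) := by rw [← hsum i hi, hre]
    refine le_trans (ker_le_range (A' := (0 : Matrix (Fin (n (i + 1))) (Fin 0) B)) h splitRank_zero hr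
      (Matrix.mul_zero _)) ?_
    rintro _ ⟨x, rfl⟩
    simp

variable [IsLocalRing B] [IsNoetherianRing B]

lemma depth_coker_splitRank {n a r : ℕ} {A : Matrix (Fin n) (Fin a) B} (h : SplitRank A r) {d : ℕ}
    (hd : (d : ℕ∞) ≤ depth B B) :
    (d : ℕ∞) ≤ idealDepth (maximalIdeal B) ((Fin n → B) ⧸ LinearMap.range A.mulVecLin) := by
  obtain ⟨P, Q, L, S, rfl, hL, hS⟩ := h
  let g : (Fin n → B) →ₗ[B] (Fin n → B) := LinearMap.id - P.mulVecLin ∘ₗ L.mulVecLin
  have hg0 : LinearMap.range (P * Q).mulVecLin ≤ LinearMap.ker g := by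
    rintro _ ⟨x, rfl⟩
    rw [LinearMap.mem_ker]
    simp [g, Matrix.mulVec_mulVec, ← Matrix.mul_assoc L P, hL]
  refine SES.le_idealDepth_left (maximalIdeal B) (f := Submodule.liftQ _ g hg0)
    (g := L.mulVecLin) ?_ ?_ ?_ (Groth.Agent.Lib.QDepth.le_idealDepth_pi _ hd n)
    (Groth.Agent.Lib.QDepth.le_idealDepth_pi _ ((Nat.cast_le.mpr (Nat.sub_le d 1)).trans hd) r)
  · refine (injective_iff_map_eq_zero _).mpr fun x hx => ?_
    induction x using Submodule.Quotient.induction_on with | H x => ?_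
    rw [Submodule.liftQ_apply] at hx
    rw [Submodule.Quotient.mk_eq_zero]
    refine ⟨S *ᵥ (L *ᵥ x), ?_⟩
    rw [Matrix.mulVecLin_apply, ← Matrix.mulVec_mulVec _ P Q, Matrix.mulVec_mulVec _ Q S, hS,
      Matrix.one_mulVec]
    exact (sub_eq_zero.mp hx).symm
  · intro y
    constructor
    · intro hy
      refine ⟨Submodule.Quotient.mk y, ?_⟩
      rw [Submodule.liftQ_apply]
      have : L *ᵥ y = 0 := hy
      simp [g, this]
    · rintro ⟨x, rfl⟩
      induction x using Submodule.Quotient.induction_on with | H x => ?_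
      rw [Submodule.liftQ_apply]
      simp [g, Matrix.mulVec_sub, Matrix.mulVec_mulVec, ← Matrix.mul_assoc L P, hL]
  · intro y
    exact ⟨P *ᵥ y, by simp [Matrix.mulVec_mulVec, hL]⟩

/-- If the complex is exact above degree `k` and split above the depth, the cokernel in degree `k`
has depth at least `min k d`. -/
lemma depth_coker {e : ℕ} {n : ℕ → ℕ} (A : (i : ℕ) → Matrix (Fin (n i)) (Fin (n (i + 1))) B)
    (hA : ∀ i, i + 2 ≤ e → A i * A (i + 1) = 0) (r : ℕ → ℕ) {d : ℕ}
    (hd : (d : ℕ∞) ≤ depth B B) (hS : ∀ i, i < e → d ≤ i → SplitRank (A i) (r i)) :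
    ∀ k, k ≤ e → (∀ i, k ≤ i → i < e → LinearMap.ker (A i).mulVecLin ≤ im e A (i + 1)) →
      ((min k d : ℕ) : ℕ∞) ≤ idealDepth (maximalIdeal B) ((Fin (n k) → B) ⧸ im e A k) := by
  intro k hk
  induction hm : e - k generalizing k with
  | zero =>
    intro _
    rw [Basic.idealDepth_congr _ (Submodule.quotEquivOfEqBot _ (im_ge A (by omega)))]
    exact (Nat.cast_le.mpr (min_le_right k d)).trans (Groth.Agent.Lib.QDepth.le_idealDepth_pi _ hd _)
  | succ m ih =>
    intro hex
    have hke : k < e := by omega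
    rw [Basic.idealDepth_congr _ (Submodule.quotEquivOfEq _ _ (im_lt A hke))]
    by_cases hdk : d ≤ k
    · exact (Nat.cast_le.mpr (min_le_right k d)).trans (depth_coker_splitRank (hS k hke hdk) hd)
    · have h1 := ih (k + 1) (by omega) (by omega) fun i hi hie => hex i (by omega) hie
      have e1 : min (k + 1) d = k + 1 := by omega
      have e2 : min k d = k := by omega
      rw [e1] at h1
      rw [e2]
      refine SES.le_idealDepth_right (maximalIdeal B)
        (f := Submodule.liftQ _ (A k).mulVecLin (im_le_ker A hA k))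
        (g := (LinearMap.range (A k).mulVecLin).mkQ) ?_ ?_ (Submodule.mkQ_surjective _)
        (Groth.Agent.Lib.QDepth.le_idealDepth_pi _
          ((Nat.cast_le.mpr (by omega : k ≤ d)).trans hd) _) h1
      · rw [← LinearMap.ker_eq_bot]
        exact Submodule.ker_liftQ_eq_bot _ _ _ (hex k le_rfl hke)
      · rw [LinearMap.exact_iff, Submodule.ker_mkQ, Submodule.range_liftQ]

end Groth.Agent.H80.BE.Depth
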