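import Groth.Agent.H80.BE.Depth

/-!
# Localization of a complex of finite free modules
-/

set_option autoImplicit false
set_option backward.isDefEq.respectTransparency false
universe u

open Matrix
open Groth.Agent.H80.BE.Depth

namespace Groth.Agent.H80.BE.Loc

variable {R : Type u} [CommRing R] (B : Type u) [CommRing B] [Algebra R B]

lemma minorIdeal_map {C : Type u} [CommRing C] (φ : R →+* C) {a b : ℕ}
    (M : Matrix (Fin a) (Fin b) R) (k : ℕ) :
    CAlgX.minorIdeal (M.map φ) k = (CAlgX.minorIdeal M k).map φ := by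
  rw [CAlgX.minorIdeal, CAlgX.minorIdeal, Ideal.map_span, ← Set.range_comp]
  congr 2
  funext fg
  simp only [Function.comp_apply, RingHom.map_det, RingHom.mapMatrix_apply, Matrix.submatrix_map]

variable {B}

lemma mulVec_map {C : Type u} [CommRing C] (φ : R →+* C) {a b : ℕ}
    (M : Matrix (Fin a) (Fin b) R) (z : Fin b → R) : M.map φ *ᵥ (φ ∘ z) = φ ∘ (M *ᵥ z) :=
  funext fun j => (RingHom.map_mulVec φ M z j).symm

lemma complex_map {C : Type u} [CommRing C] (φ : R →+* C) {e : ℕ} {n : ℕ → ℕ}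
    (A : (i : ℕ) → Matrix (Fin (n i)) (Fin (n (i + 1))) R)
    (hA : ∀ i, i + 2 ≤ e → A i * A (i + 1) = 0) :
    ∀ i, i + 2 ≤ e → (A i).map φ * (A (i + 1)).map φ = 0 := fun i hi => by
  rw [← Matrix.map_mul, hA i hi, Matrix.map_zero _ (map_zero φ)]

variable (B) (S : Submonoid R) [IsLocalization S B] {e : ℕ} {n : ℕ → ℕ}
  (A : (i : ℕ) → Matrix (Fin (n i)) (Fin (n (i + 1))) R)

/-- The localized matrices. -/
noncomputable abbrev loc (i : ℕ) : Matrix (Fin (n i)) (Fin (n (i + 1))) B :=
  (A i).map (algebraMap R B)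

include S

lemma clear {a : ℕ} (w : Fin a → B) :
    ∃ t ∈ S, ∃ z : Fin a → R, algebraMap R B t • w = algebraMap R B ∘ z := by
  obtain ⟨t, ht⟩ := IsLocalization.exist_integer_multiples_of_finite S w
  choose z hz using ht
  exact ⟨t, t.2, z, funext fun j => ((hz j).trans (Algebra.smul_def _ _)).symm⟩

lemma exists_smul_eq {a : ℕ} {z z' : Fin a → R} (h : algebraMap R B ∘ z = algebraMap R B ∘ z') :
    ∃ t ∈ S, t • z = t • z' := by
  classical
  have h1 : ∀ j, ∃ m : S, (m : R) * z j = m * z' j := fun j =>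
    (IsLocalization.eq_iff_exists S B).mp (congrFun h j)
  choose m hm using h1
  refine ⟨(∏ j, m j : S), (∏ j, m j).2, funext fun j => ?_⟩
  simp only [Pi.smul_apply, smul_eq_mul, SubmonoidClass.coe_finsetProd]
  rw [← Finset.prod_erase_mul _ _ (Finset.mem_univ j), mul_assoc, mul_assoc, hm]

lemma mem_im_of_mem {k : ℕ} {z : Fin (n k) → R} (hz : z ∈ im e A k) :
    algebraMap R B ∘ z ∈ im e (loc B A) k := by
  by_cases h : k < e
  · rw [im_lt _ h] at hz ⊢
    obtain ⟨u, rfl⟩ := hz
    exact ⟨algebraMap R B ∘ u, mulVec_map _ _ _⟩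
  · rw [im_ge _ (by omega), Submodule.mem_bot] at hz ⊢
    subst hz
    exact funext fun j => map_zero _

lemma exists_of_mem_im {k : ℕ} {z : Fin (n k) → R}
    (hz : algebraMap R B ∘ z ∈ im e (loc B A) k) : ∃ t ∈ S, t • z ∈ im e A k := by
  by_cases h : k < e
  · rw [im_lt _ h] at hz ⊢
    obtain ⟨y, hy⟩ := hz
    obtain ⟨t, ht, u, htu⟩ := clear B S y
    have h1 : algebraMap R B ∘ (A k *ᵥ u) = algebraMap R B ∘ (t • z) := by
      rw [← mulVec_map, ← htu, Matrix.mulVec_smul]
      show algebraMap R B t • (loc B A k).mulVecLin y = _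
      rw [hy]
      funext j
      simp
    obtain ⟨s, hs, hsu⟩ := exists_smul_eq B S h1
    refine ⟨s * t, S.mul_mem hs ht, ?_⟩
    rw [mul_smul, ← hsu, ← Matrix.mulVec_smul]
    exact LinearMap.mem_range_self (A k).mulVecLin _
  · rw [im_ge _ (by omega)] at hz ⊢
    have h1 : algebraMap R B ∘ z = algebraMap R B ∘ (0 : Fin (n k) → R) := by
      rw [(Submodule.mem_bot B).mp hz]
      exact funext fun j => (map_zero _).symm
    obtain ⟨s, hs, hsz⟩ := exists_smul_eq B S h1
    exact ⟨s, hs, by rw [hsz, smul_zero]; exact zero_mem _⟩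

lemma ker_le_im {i : ℕ} (h : LinearMap.ker (A i).mulVecLin ≤ im e A (i + 1)) :
    LinearMap.ker (loc B A i).mulVecLin ≤ im e (loc B A) (i + 1) := by
  intro w hw
  obtain ⟨t, ht, z, htz⟩ := clear B S w
  have hu : IsUnit (algebraMap R B t) := IsLocalization.map_units B ⟨t, ht⟩
  have h1 : algebraMap R B ∘ (A i *ᵥ z) = algebraMap R B ∘ (0 : Fin (n i) → R) := by
    rw [← mulVec_map, ← htz, Matrix.mulVec_smul]
    have : loc B A i *ᵥ w = 0 := hw
    rw [this, smul_zero]
    exact funext fun j => (map_zero _).symm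
  obtain ⟨s, hs, hsz⟩ := exists_smul_eq B S h1
  have h2 : s • z ∈ im e A (i + 1) := h (by
    rw [LinearMap.mem_ker, Matrix.mulVecLin_apply, Matrix.mulVec_smul, hsz, smul_zero])
  have h3 := mem_im_of_mem B S A h2
  have h4 : algebraMap R B ∘ (s • z) = (algebraMap R B s * algebraMap R B t) • w := by
    rw [mul_smul, htz]
    funext j
    simp
  rw [h4] at h3
  exact (Submodule.smul_mem_iff_of_isUnit _ ((IsLocalization.map_units B ⟨s, hs⟩).mul hu)).mp h3

end Groth.Agent.H80.BE.Loc
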