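import Mathlib
import Groth.Agent.H80.BE.Depth

/-!
# Alternating sums of ranks
-/

set_option autoImplicit false
universe u

namespace Groth.Agent.H80.BE.Sums

/-- `∑_{i+1 ≤ t ≤ e} (-1)^(t-(i+1)) n t`. -/
def rk (e : ℕ) (n : ℕ → ℕ) (i : ℕ) : ℤ :=
  ∑ t ∈ Finset.Icc (i + 1) e, (-1 : ℤ) ^ (t - (i + 1)) * (n t : ℤ)

lemma rk_of_le {e : ℕ} {n : ℕ → ℕ} {i : ℕ} (h : e ≤ i) : rk e n i = 0 := by
  rw [rk, Finset.Icc_eq_empty (by omega), Finset.sum_empty]

lemma rk_step {e : ℕ} (n : ℕ → ℕ) {i : ℕ} (h : i < e) : rk e n i = n (i + 1) - rk e n (i + 1) := by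
  rw [rk, rk, ← Finset.insert_Icc_add_one_left_eq_Icc (show i + 1 ≤ e by omega),
    Finset.sum_insert (by simp), Nat.sub_self, pow_zero, one_mul, sub_eq_add_neg,
    ← Finset.sum_neg_distrib]
  congr 1
  refine Finset.sum_congr rfl fun t ht => ?_
  have := (Finset.mem_Icc.mp ht).1
  rw [show t - (i + 1) = (t - (i + 1 + 1)) + 1 by omega, pow_succ]
  ring

lemma rk_shift (e : ℕ) (n : ℕ → ℕ) (i : ℕ) :
    rk e (fun t => n (t + 1)) i = rk (e + 1) n (i + 1) := by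
  rw [rk, rk, ← Finset.map_add_right_Icc, Finset.sum_map]
  refine Finset.sum_congr rfl fun t _ => ?_
  simp only [addRightEmbedding_apply]
  rw [show t + 1 - (i + 1 + 1) = t - (i + 1) by omega]

end Groth.Agent.H80.BE.Sums
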