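import Groth.Agent.H80.BE.Suff
import Groth.Agent.H80.BE.Sums
import Groth.Agent.S12909
import Groth.Agent.Lib.Depth.Local

/-!
# The Buchsbaum–Eisenbud exactness criterion: necessity
-/

set_option autoImplicit false
set_option backward.isDefEq.respectTransparency false
universe u

open Matrix IsLocalRing LocCoh Pointwise
open Groth.Agent.Lib.Depth
open Groth.Agent.H80.BE.Split Groth.Agent.H80.BE.Depth Groth.Agent.H80.BE.Sums

namespace Groth.Agent.H80.BE.Nec

lemma alt_eq_rk (e : ℕ) (n : ℕ → ℕ) : ∀ m i, i + m = e →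
    Groth.Agent.S12909.alt m (fun t => n (i + t)) = rk e n i := by
  intro m
  induction m with
  | zero =>
    intro i h
    rw [rk_of_le (by omega)]
    rfl
  | succ m ih =>
    intro i h
    rw [rk_step n (by omega), ← ih (i + 1) (by omega)]
    show (n (i + 1) : ℤ) - Groth.Agent.S12909.alt m (fun t => n (i + (t + 1))) = _
    rw [show (fun t => n (i + (t + 1))) = fun t => n (i + 1 + t) from
      funext fun t => by rw [Nat.add_right_comm i 1 t]; rfl]

/-- In depth zero an exact complex is split. -/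
theorem split_depth_zero {B : Type u} [CommRing B] [IsLocalRing B] (s : B) (hs : s ≠ 0)
    (hm : ∀ y ∈ maximalIdeal B, s * y = 0) (e : ℕ) (n : ℕ → ℕ)
    (A : (i : ℕ) → Matrix (Fin (n i)) (Fin (n (i + 1))) B)
    (hA : ∀ i, i + 2 ≤ e → A i * A (i + 1) = 0)
    (hex : ∀ i, i < e → LinearMap.ker (A i).mulVecLin ≤ im e A (i + 1)) {i : ℕ} (hi : i < e) :
    ∃ r : ℕ, (r : ℤ) = rk e n i ∧ SplitRank (A i) r := by
  have hker : ∀ j, j + 2 ≤ e →
      LinearMap.ker (A j).mulVecLin = LinearMap.range (A (j + 1)).mulVecLin := fun j hj => by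
    refine le_antisymm ?_ ?_
    · have := hex j (by omega); rwa [im_lt A (by omega)] at this
    · have := im_le_ker A hA j; rwa [im_lt A (by omega)] at this
  obtain ⟨hsp, hrk⟩ := Groth.Agent.S12909.range_split s hs hm (e - i) (fun t => n (i + t))
    (fun t => (A (i + t)).mulVecLin) (by omega) (fun t ht => hker (i + t) (by omega))
    (le_bot_iff.mp (by
      have := hex (i + (e - i - 1)) (by omega)
      rwa [im_ge A (by omega)] at this))
  refine ⟨_, ?_, splitRank_of_range hsp rfl⟩
  rw [← alt_eq_rk e n (e - i) i (by omega)]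
  exact hrk

/-- Above the depth the ideals of minors of the expected size are trivial. -/
theorem minorIdeal_top (d : ℕ) : ∀ (B : Type u) [CommRing B] [IsLocalRing B] [IsNoetherianRing B],
    ¬ ((d + 1 : ℕ) : ℕ∞) ≤ depth B B → ∀ (e : ℕ) (n : ℕ → ℕ)
      (A : (i : ℕ) → Matrix (Fin (n i)) (Fin (n (i + 1))) B),
      (∀ i, i + 2 ≤ e → A i * A (i + 1) = 0) →
      (∀ i, i < e → LinearMap.ker (A i).mulVecLin ≤ im e A (i + 1)) →
      ∀ i, i < e → d ≤ i → CAlgX.minorIdeal (A i) (rk e n i).toNat = ⊤ := by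
  induction d with
  | zero =>
    intro B _ _ _ hd e n A hA hex i hi _
    have h0 : depth B B = 0 := by
      by_contra h
      exact hd (by simpa using Order.one_le_iff_ne_zero.mpr h)
    have hm := (Assoc.depth_eq_zero_iff B).mp h0
    rw [AssociatedPrimes.mem_iff, isAssociatedPrime_iff] at hm
    obtain ⟨-, s, hs⟩ := hm
    have hs' : ∀ y, y ∈ maximalIdeal B ↔ y * s = 0 := fun y => by
      rw [hs, Submodule.mem_colon_singleton, Submodule.mem_bot, smul_eq_mul]
    obtain ⟨r, hr, hsp⟩ := split_depth_zero s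
      (fun h => (maximalIdeal.isMaximal B).ne_top ((Ideal.eq_top_iff_one _).mpr ((hs' 1).mpr (by simp [h]))))
      (fun y hy => by rw [mul_comm]; exact (hs' y).mp hy) e n A hA hex hi
    rw [← hr, Int.toNat_natCast]
    exact minorIdeal_eq_top hsp
  | succ d ih =>
    intro B _ _ _ hd e n A hA hex i hi hdi
    by_cases hd' : ((d + 1 : ℕ) : ℕ∞) ≤ depth B B
    swap
    · exact ih B hd' e n A hA hex i hi (by omega)
    obtain ⟨x, hx, hreg, -⟩ := Basic.exists_isSMulRegular_of_succ_le
      (Basic.smul_top_ne_top (R := B) (Ideal.IsPrime.ne_top' (I := maximalIdeal B))) hd'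
    have hxne : Ideal.span {x} ≤ maximalIdeal B := (Ideal.span_singleton_le_iff_mem _).mpr hx
    have : Nontrivial (B ⧸ Ideal.span {x}) := Ideal.Quotient.nontrivial_iff.mpr
      fun h => (maximalIdeal.isMaximal B).ne_top (top_le_iff.mp (h ▸ hxne))
    have : IsLocalRing (B ⧸ Ideal.span {x}) :=
      IsLocalRing.of_surjective' (Ideal.Quotient.mk _) Ideal.Quotient.mk_surjective
    let q := Ideal.Quotient.mk (Ideal.span {x})
    have hdB : ¬ ((d + 1 : ℕ) : ℕ∞) ≤ depth (B ⧸ Ideal.span {x}) (B ⧸ Ideal.span {x}) := by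
      intro h
      rw [← Basic.depth_eq_of_surjective (R := B) (S := B ⧸ Ideal.span {x})
        Ideal.Quotient.mk_surjective] at h
      refine hd ((SES.succ_le_idealDepth_iff _ hx hreg (d + 1)).mpr ?_)
      rw [Basic.idealDepth_congr _ (Submodule.quotEquivOfEq (x • (⊤ : Submodule B B))
        (Ideal.span {x}) (by rw [← Submodule.ideal_span_singleton_smul]; simp))]
      exact h
    obtain ⟨j, rfl⟩ : ∃ j, i = j + 1 := ⟨i - 1, by omega⟩
    obtain ⟨e', rfl⟩ : ∃ e', e = e' + 1 := ⟨e - 1, by omega⟩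
    have key := ih (B ⧸ Ideal.span {x}) hdB e' (fun t => n (t + 1)) (fun t => (A (t + 1)).map q)
      (fun t ht => Loc.complex_map q (fun t => A (t + 1)) (e := e') (fun t ht => hA (t + 1) (by omega)) t ht)
      ?_ j (by omega) (by omega)
    · rw [rk_shift, Loc.minorIdeal_map] at key
      by_contra hne
      refine (maximalIdeal.isMaximal (B ⧸ Ideal.span {x})).ne_top (top_le_iff.mp ?_)
      rw [← key, Ideal.map_le_iff_le_comap]
      intro y hy
      have hy' : ¬ IsUnit y := fun hu => hne (Ideal.eq_top_of_isUnit_mem _ hy hu)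
      rw [Ideal.mem_comap, mem_maximalIdeal, mem_nonunits_iff]
      intro hu
      obtain ⟨z, hz⟩ := Ideal.Quotient.mk_surjective (I := Ideal.span {x}) ↑hu.unit⁻¹
      have h1 : y * z - 1 ∈ Ideal.span {x} := by
        rw [← Ideal.Quotient.eq_zero_iff_mem, map_sub, map_mul, hz, map_one, IsUnit.mul_val_inv,
          sub_self]
      have h2 : y * z - 1 ∈ maximalIdeal B := hxne h1
      have h3 : y * z ∈ maximalIdeal B :=
        Ideal.mul_mem_right _ _ ((mem_maximalIdeal y).mpr hy')
      exact (maximalIdeal.isMaximal B).ne_top ((Ideal.eq_top_iff_one _).mpr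
        (by simpa using sub_mem h3 h2))
    · intro t ht w hw
      have hsurj : Function.Surjective q := Ideal.Quotient.mk_surjective
      choose v hv using fun j => hsurj (w j)
      obtain rfl : q ∘ v = w := funext hv
      rw [LinearMap.mem_ker, Matrix.mulVecLin_apply, Loc.mulVec_map] at hw
      have h1 : ∀ l, ∃ c, (A (t + 1) *ᵥ v) l = x * c := fun l =>
        Ideal.mem_span_singleton'.mp (Ideal.Quotient.eq_zero_iff_mem.mp (congrFun hw l))
          |>.imp fun c hc => by rw [← hc, mul_comm]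
      choose c hc using h1
      have hc' : A (t + 1) *ᵥ v = x • c := funext hc
      have h2 : A t *ᵥ c = 0 := by
        have : x • (A t *ᵥ c) = x • (0 : Fin (n t) → B) := by
          rw [← Matrix.mulVec_smul, ← hc', Matrix.mulVec_mulVec, hA t (by omega),
            Matrix.zero_mulVec, smul_zero]
        exact funext fun l => hreg (congrFun this l)
      have h3 := hex t (by omega) (show c ∈ LinearMap.ker (A t).mulVecLin from h2)
      rw [im_lt A (by omega)] at h3
      obtain ⟨u, hu⟩ := h3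
      have h4 := hex (t + 1) (by omega) (show v - x • u ∈ LinearMap.ker (A (t + 1)).mulVecLin by
        rw [LinearMap.mem_ker, map_sub, map_smul, hu, Matrix.mulVecLin_apply, hc', sub_self])
      have hqv : q ∘ (v - x • u) = q ∘ v := by
        funext l
        simp [q]
      by_cases h5 : t + 1 < e'
      · rw [im_lt A (by omega)] at h4
        rw [im_lt _ h5, ← hqv]
        obtain ⟨y, hy⟩ := h4
        exact ⟨q ∘ y, by rw [Matrix.mulVecLin_apply, Loc.mulVec_map, ← hy]; rfl⟩
      · rw [im_ge A (by omega), Submodule.mem_bot] at h4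
        rw [im_ge _ (by omega), Submodule.mem_bot, ← hqv, h4]
        exact funext fun l => map_zero q

/-- Necessity: the rank of each map and the depth of its ideal of minors. -/
theorem rank_and_depth {R : Type u} [CommRing R] [IsLocalRing R] [IsNoetherianRing R] (e : ℕ)
    (n : ℕ → ℕ) (A : (i : ℕ) → Matrix (Fin (n i)) (Fin (n (i + 1))) R)
    (hA : ∀ i, i + 2 ≤ e → A i * A (i + 1) = 0)
    (hex : ∀ i, i < e → LinearMap.ker (A i).mulVecLin ≤ im e A (i + 1)) {i : ℕ} (hi : i < e) :
    (CAlgX.matrixRank (A i) : ℤ) = rk e n i ∧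
      ((i + 1 : ℕ) : ℕ∞) ≤ idealDepth (CAlgX.detIdeal (A i)) R := by
  classical
  have hloc : ∀ (Q : Ideal R) [Q.IsPrime], Q ∈ associatedPrimes R R → ∃ r : ℕ, (r : ℤ) = rk e n i ∧
      SplitRank (Loc.loc (Localization.AtPrime Q) A i) r := by
    intro Q _ hQ
    rw [AssociatedPrimes.mem_iff, isAssociatedPrime_iff] at hQ
    obtain ⟨-, x₀, hx₀⟩ := hQ
    have hx₀' : ∀ y, y ∈ Q ↔ y * x₀ = 0 := fun y => by
      rw [hx₀, Submodule.mem_colon_singleton, Submodule.mem_bot, smul_eq_mul]
    refine split_depth_zero (algebraMap R (Localization.AtPrime Q) x₀) ?_ ?_ e n _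
      (Loc.complex_map _ A hA) (fun j hj => Loc.ker_le_im _ Q.primeCompl A (hex j hj)) hi
    · intro h
      obtain ⟨⟨t, ht⟩, htx⟩ := (IsLocalization.map_eq_zero_iff Q.primeCompl _ _).mp h
      exact ht ((hx₀' t).mpr htx)
    · intro y hy
      obtain ⟨a, s, rfl⟩ := IsLocalization.exists_mk'_eq Q.primeCompl y
      have ha : a ∈ Q := by
        by_contra ha
        exact (mem_maximalIdeal _).mp hy
          (IsLocalization.AtPrime.isUnit_mk'_iff _ Q a s |>.mpr ha)
      rw [← IsLocalization.mk'_one (M := Q.primeCompl) (Localization.AtPrime Q) x₀,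
        ← IsLocalization.mk'_mul, mul_comm x₀ a, (hx₀' a).mp ha, IsLocalization.mk'_zero]
  obtain ⟨Q₀, hQ₀⟩ := associatedPrimes.nonempty R R
  have := hQ₀.isPrime
  obtain ⟨r, hr, hsp₀⟩ := hloc Q₀ hQ₀
  have hrk : CAlgX.matrixRank (A i) = r := by
    have hbot : ∀ k, r < k → CAlgX.minorIdeal (A i) k = ⊥ := by
      intro k hk
      rw [Submodule.eq_bot_iff]
      intro y hy
      by_contra hy0
      obtain ⟨Q, hQ, hle⟩ := exists_le_isAssociatedPrime_of_isNoetherianRing R y hy0
      have := IsAssociatedPrime.isPrime hQ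
      obtain ⟨r', hr', hsp⟩ := hloc Q hQ
      obtain rfl : r' = r := Nat.cast_injective (R := ℤ) (hr'.trans hr.symm)
      have h1 : algebraMap R (Localization.AtPrime Q) y ∈
          CAlgX.minorIdeal (Loc.loc (Localization.AtPrime Q) A i) k := by
        rw [Loc.loc, Loc.minorIdeal_map]
        exact Ideal.mem_map_of_mem _ hy
      rw [minorIdeal_eq_bot hsp hk, Ideal.mem_bot] at h1
      obtain ⟨⟨t, ht⟩, hty⟩ := (IsLocalization.map_eq_zero_iff Q.primeCompl _ _).mp h1
      exact ht (hle (by rw [Submodule.mem_colon_singleton, Submodule.mem_bot, smul_eq_mul, hty]))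
    have hne : CAlgX.minorIdeal (A i) r ≠ ⊥ := by
      intro h
      have := minorIdeal_eq_top hsp₀
      rw [Loc.loc, Loc.minorIdeal_map, h, Ideal.map_bot] at this
      exact bot_ne_top this
    have hset : ∀ k ∈ {k : ℕ | CAlgX.minorIdeal (A i) k ≠ ⊥}, k ≤ r := fun k hk => by
      by_contra hlt
      exact hk (hbot k (by omega))
    exact le_antisymm (csSup_le ⟨r, hne⟩ hset) (le_csSup ⟨r, hset⟩ hne)
  refine ⟨hrk ▸ hr, ?_⟩
  rw [Local.idealDepth_eq_iInf]
  refine le_iInf₂ fun p hp => ?_
  by_contra hlt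
  have : IsNoetherianRing (Localization.AtPrime p.asIdeal) :=
    IsLocalization.isNoetherianRing p.asIdeal.primeCompl _ inferInstance
  have htop := minorIdeal_top i (Localization.AtPrime p.asIdeal) hlt e n _
    (Loc.complex_map (algebraMap R _) A hA)
    (fun j hj => Loc.ker_le_im _ p.asIdeal.primeCompl A (hex j hj)) i hi le_rfl
  rw [← hr, Int.toNat_natCast, Loc.minorIdeal_map] at htop
  rw [CAlgX.detIdeal, hrk] at hp
  refine (maximalIdeal.isMaximal (Localization.AtPrime p.asIdeal)).ne_top (top_le_iff.mp ?_)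
  rw [← htop, ← Localization.AtPrime.map_eq_maximalIdeal]
  exact Ideal.map_mono hp

end Groth.Agent.H80.BE.Nec
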