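import Mathlib
import Groth.Prelude.Def_CAlgX
import Groth.Agent.H34.CauchyBinet

/-!
# Matrices of split rank `r`
-/

set_option autoImplicit false
set_option backward.isDefEq.respectTransparency false
universe u

open Matrix

namespace Groth.Agent.H80.BE.Split

variable {B : Type u} [CommRing B] {n a a' : ℕ}

/-- `A` is the projection onto a free summand of rank `r` followed by a split injection. -/
def SplitRank (A : Matrix (Fin n) (Fin a) B) (r : ℕ) : Prop :=
  ∃ (P : Matrix (Fin n) (Fin r) B) (Q : Matrix (Fin r) (Fin a) B)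
    (L : Matrix (Fin r) (Fin n) B) (S : Matrix (Fin a) (Fin r) B),
    A = P * Q ∧ L * P = 1 ∧ Q * S = 1

lemma splitRank_zero : SplitRank (0 : Matrix (Fin n) (Fin a) B) 0 :=
  ⟨0, 0, 0, 0, by simp, Subsingleton.elim _ _, Subsingleton.elim _ _⟩

lemma det_mem_minorIdeal (A : Matrix (Fin n) (Fin a) B) {r : ℕ} (f : Fin r → Fin n)
    (g : Fin r → Fin a) : (A.submatrix f g).det ∈ CAlgX.minorIdeal A r :=
  Ideal.subset_span ⟨(f, g), rfl⟩

lemma det_mul_mul_mem (A : Matrix (Fin n) (Fin a) B) {r : ℕ} (L : Matrix (Fin r) (Fin n) B)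
    (S : Matrix (Fin a) (Fin r) B) : (L * (A * S)).det ∈ CAlgX.minorIdeal A r := by
  rw [Groth.Agent.H34.CauchyBinet.det_mul_expand]
  refine Ideal.sum_mem _ fun p _ => Ideal.mul_mem_left _ _ ?_
  rw [Matrix.submatrix_mul _ _ _ id _ Function.bijective_id, Matrix.submatrix_id_id,
    ← Matrix.det_transpose, Matrix.transpose_mul, Groth.Agent.H34.CauchyBinet.det_mul_expand]
  refine Ideal.sum_mem _ fun q _ => Ideal.mul_mem_left _ _ ?_
  rw [Matrix.transpose_submatrix, Matrix.submatrix_submatrix, ← Matrix.transpose_submatrix,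
    Matrix.det_transpose]
  exact det_mem_minorIdeal A _ _

lemma minorIdeal_eq_top {A : Matrix (Fin n) (Fin a) B} {r : ℕ} (h : SplitRank A r) :
    CAlgX.minorIdeal A r = ⊤ := by
  obtain ⟨P, Q, L, S, rfl, hL, hS⟩ := h
  have := det_mul_mul_mem (P * Q) L S
  rw [Matrix.mul_assoc, hS, Matrix.mul_one, hL, Matrix.det_one] at this
  exact (Ideal.eq_top_iff_one _).mpr this

lemma minorIdeal_eq_bot {A : Matrix (Fin n) (Fin a) B} {r : ℕ} (h : SplitRank A r) {k : ℕ}
    (hk : r < k) : CAlgX.minorIdeal A k = ⊥ := by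
  obtain ⟨P, Q, -, -, rfl, -, -⟩ := h
  rw [CAlgX.minorIdeal, Ideal.span_eq_bot]
  rintro _ ⟨⟨f, g⟩, rfl⟩
  dsimp only
  rw [Matrix.submatrix_mul _ _ _ id _ Function.bijective_id,
    Groth.Agent.H34.CauchyBinet.det_mul_expand]
  refine Finset.sum_eq_zero fun p _ => ?_
  obtain ⟨x, y, hxy, hne⟩ := Function.not_injective_iff.mp
    (fun hp : Function.Injective p => by
      have := Fintype.card_le_of_injective p hp; simp at this; omega)
  rw [Matrix.det_zero_of_row_eq hne (by funext z; simp [hxy]), mul_zero]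

/-- Criterion by minors, over a local ring. -/
lemma splitRank_of_minors [IsLocalRing B] {A : Matrix (Fin n) (Fin a) B} {r : ℕ}
    (htop : CAlgX.minorIdeal A r = ⊤) (hbot : CAlgX.minorIdeal A (r + 1) = ⊥) :
    SplitRank A r := by
  classical
  obtain ⟨⟨f, g⟩, hu⟩ : ∃ fg : (Fin r → Fin n) × (Fin r → Fin a),
      IsUnit (A.submatrix fg.1 fg.2).det := by
    by_contra hc
    push Not at hc
    refine (IsLocalRing.maximalIdeal.isMaximal B).ne_top (top_le_iff.mp ?_)
    rw [← htop, CAlgX.minorIdeal, Ideal.span_le]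
    rintro _ ⟨fg, rfl⟩
    exact hc fg
  set M := A.submatrix f g with hM
  have : Invertible M.det := hu.invertible
  have : Invertible M := Matrix.invertibleOfDetInvertible M
  refine ⟨A.submatrix id g, ⅟M * A.submatrix f id,
    ⅟M * (1 : Matrix (Fin n) (Fin n) B).submatrix f id,
    (1 : Matrix (Fin a) (Fin a) B).submatrix id g, ?_, ?_, ?_⟩
  · ext i c
    let C : Matrix (Fin 1) (Fin r) B := A.submatrix (fun _ => i) g
    let D : Matrix (Fin r) (Fin 1) B := A.submatrix f (fun _ => c)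
    let E : Matrix (Fin 1) (Fin 1) B := A.submatrix (fun _ => i) (fun _ => c)
    have h0 : (Matrix.fromBlocks M D C E).det = 0 := by
      have : (Matrix.fromBlocks M D C E).submatrix (finSumFinEquiv (m := r) (n := 1)).symm
          (finSumFinEquiv (m := r) (n := 1)).symm =
          A.submatrix (Sum.elim f (fun _ => i) ∘ (finSumFinEquiv (m := r) (n := 1)).symm)
            (Sum.elim g (fun _ => c) ∘ (finSumFinEquiv (m := r) (n := 1)).symm) := by
        ext x y
        simp only [Matrix.submatrix_apply, Function.comp_apply]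
        rcases (finSumFinEquiv (m := r) (n := 1)).symm x with x' | x' <;>
          rcases (finSumFinEquiv (m := r) (n := 1)).symm y with y' | y' <;>
            simp [M, C, D, E]
      rw [← Matrix.det_submatrix_equiv_self (finSumFinEquiv (m := r) (n := 1)).symm, this,
        ← Ideal.mem_bot, ← hbot]
      exact det_mem_minorIdeal A _ _
    rw [Matrix.det_fromBlocks₁₁, hu.mul_right_eq_zero, Matrix.det_fin_one, Matrix.sub_apply,
      sub_eq_zero] at h0
    rw [show A i c = E 0 0 from rfl, h0, Matrix.mul_assoc]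
    rfl
  · rw [Matrix.mul_assoc, ← Matrix.submatrix_id_id (A.submatrix id g)]
    rw [← Matrix.submatrix_mul _ _ _ id _ Function.bijective_id, Matrix.one_mul,
      Matrix.submatrix_submatrix]
    exact invOf_mul_self M
  · rw [Matrix.mul_assoc, ← Matrix.submatrix_mul _ _ _ id _ Function.bijective_id, Matrix.mul_one]
    exact invOf_mul_self M

/-- Two split maps of complementary ranks composing to zero form an exact sequence. -/
lemma ker_le_range {A : Matrix (Fin n) (Fin a) B} {A' : Matrix (Fin a) (Fin a') B} {r r' : ℕ}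
    (h : SplitRank A r) (h' : SplitRank A' r') (hr : r + r' = a) (hAA : A * A' = 0) :
    LinearMap.ker A.mulVecLin ≤ LinearMap.range A'.mulVecLin := by
  obtain ⟨P, Q, L, S, rfl, hL, hS⟩ := h
  obtain ⟨P', Q', L', S', rfl, hL', hS'⟩ := h'
  have hQP : Q * P' = 0 := by
    have := congrArg (fun M => L * M * S') hAA
    simp only [← Matrix.mul_assoc, hL, Matrix.one_mul, Matrix.mul_zero, Matrix.zero_mul] at this
    rwa [Matrix.mul_assoc, hS', Matrix.mul_one] at this
  let Φ : (Fin a → B) →ₗ[B] (Fin r → B) × (Fin r' → B) := Q.mulVecLin.prod L'.mulVecLin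
  have hsurj : Function.Surjective Φ := by
    rintro ⟨x, y⟩
    refine ⟨S *ᵥ x + P' *ᵥ (y - L' *ᵥ (S *ᵥ x)), Prod.ext ?_ ?_⟩
    · show Q *ᵥ (S *ᵥ x + P' *ᵥ (y - L' *ᵥ (S *ᵥ x))) = x
      rw [Matrix.mulVec_add, Matrix.mulVec_mulVec x Q S, hS,
        Matrix.mulVec_mulVec (y - L' *ᵥ (S *ᵥ x)) Q P', hQP]
      simp
    · show L' *ᵥ (S *ᵥ x + P' *ᵥ (y - L' *ᵥ (S *ᵥ x))) = y
      rw [Matrix.mulVec_add, Matrix.mulVec_mulVec (y - L' *ᵥ (S *ᵥ x)) L' P', hL',
        Matrix.one_mulVec, add_sub_cancel]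
  subst hr
  let e : ((Fin r → B) × (Fin r' → B)) ≃ₗ[B] (Fin (r + r') → B) :=
    (LinearEquiv.sumArrowLequivProdArrow (Fin r) (Fin r') B B).symm ≪≫ₗ
      LinearEquiv.funCongrLeft B B finSumFinEquiv.symm
  have hinj : Function.Injective Φ := by
    have h1 : Function.Injective (e.toLinearMap ∘ₗ Φ) :=
      OrzechProperty.injective_of_surjective_endomorphism _ (e.surjective.comp hsurj)
    intro x y hxy
    exact h1 (by rw [LinearMap.comp_apply, LinearMap.comp_apply, hxy])
  intro x hx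
  have hQx : Q *ᵥ x = 0 := by
    have := congrArg (L *ᵥ ·) (LinearMap.mem_ker.mp hx)
    simpa [Matrix.mulVec_mulVec, ← Matrix.mul_assoc, hL] using this
  refine ⟨S' *ᵥ (L' *ᵥ x), hinj (Prod.ext ?_ ?_)⟩
  · show Q *ᵥ ((P' * Q') *ᵥ (S' *ᵥ (L' *ᵥ x))) = Q *ᵥ x
    rw [Matrix.mulVec_mulVec, ← Matrix.mul_assoc, hQP, Matrix.zero_mul, Matrix.zero_mulVec, hQx]
  · show L' *ᵥ ((P' * Q') *ᵥ (S' *ᵥ (L' *ᵥ x))) = L' *ᵥ x
    rw [← Matrix.mulVec_mulVec _ P' Q', Matrix.mulVec_mulVec _ Q' S', hS', Matrix.one_mulVec,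
      Matrix.mulVec_mulVec _ L' P', hL', Matrix.one_mulVec]

/-- A matrix whose range is a free summand of rank `r` has split rank `r`. -/
lemma splitRank_of_range [IsLocalRing B] {A : Matrix (Fin n) (Fin a) B} {r : ℕ}
    (hsplit : ∃ ρ, ρ ∘ₗ (LinearMap.range A.mulVecLin).subtype = LinearMap.id)
    (hr : Module.finrank B (LinearMap.range A.mulVecLin) = r) : SplitRank A r := by
  revert hsplit hr
  set W := LinearMap.range A.mulVecLin with hW
  rintro ⟨ρ, hρ⟩ hr
  have hρ' : ∀ x : W, ρ x.1 = x := fun x => LinearMap.congr_fun hρ x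
  have : Module.Projective B W := Module.Projective.of_split W.subtype ρ hρ
  have : Module.Finite B W := Module.Finite.of_surjective ρ fun x => ⟨x.1, hρ' x⟩
  have : Module.Free B W := Module.free_of_flat_of_isLocalRing
  let b : Module.Basis (Fin r) B W := Module.finBasisOfFinrankEq B W hr
  let E := b.equivFun
  let q : (Fin a → B) →ₗ[B] (Fin r → B) := E.toLinearMap ∘ₗ A.mulVecLin.rangeRestrict
  have hq : Function.Surjective q := E.surjective.comp A.mulVecLin.surjective_rangeRestrict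
  obtain ⟨s, hs⟩ := Module.projective_lifting_property q LinearMap.id hq
  refine ⟨LinearMap.toMatrix' (W.subtype ∘ₗ E.symm.toLinearMap), LinearMap.toMatrix' q,
    LinearMap.toMatrix' (E.toLinearMap ∘ₗ ρ), LinearMap.toMatrix' s, ?_, ?_, ?_⟩
  · rw [← LinearMap.toMatrix'_comp]
    conv_lhs => rw [← LinearMap.toMatrix'_toLin' A]
    congr 1
    refine LinearMap.ext fun x => ?_
    simp only [q, LinearMap.comp_apply, LinearEquiv.coe_coe, LinearEquiv.symm_apply_apply]
    rfl
  · rw [← LinearMap.toMatrix'_comp, ← LinearMap.toMatrix'_id]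
    congr 1
    refine LinearMap.ext fun x => ?_
    simp [hρ']
  · rw [← LinearMap.toMatrix'_comp, hs, LinearMap.toMatrix'_id]

end Groth.Agent.H80.BE.Split
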