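import Groth.Agent.H80.BE.Loc

/-!
# The Buchsbaum–Eisenbud exactness criterion: sufficiency
-/

set_option autoImplicit false
set_option backward.isDefEq.respectTransparency false
universe u

open Matrix IsLocalRing LocCoh
open Groth.Agent.Lib.Depth
open Groth.Agent.H80.BE.Split Groth.Agent.H80.BE.Depth

namespace Groth.Agent.H80.BE.Suff

lemma minorIdeal_eq_bot_of_rank_lt {R : Type u} [CommRing R] {a b : ℕ}
    (M : Matrix (Fin a) (Fin b) R) {k : ℕ} (hk : CAlgX.matrixRank M < k) :
    CAlgX.minorIdeal M k = ⊥ := by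
  have hbdd : BddAbove {r : ℕ | CAlgX.minorIdeal M r ≠ ⊥} := ⟨b, fun r hr => by
    by_contra hlt
    apply hr
    rw [CAlgX.minorIdeal, Ideal.span_eq_bot]
    rintro _ ⟨⟨f, g⟩, rfl⟩
    obtain ⟨i, j, hij, hne⟩ := Function.not_injective_iff.mp (fun h : Function.Injective g => by
      have := Fintype.card_le_of_injective g h; simp at this; omega)
    exact Matrix.det_zero_of_column_eq hne fun l => by simp [hij]⟩
  by_contra h
  exact absurd (le_csSup hbdd (show k ∈ {r : ℕ | CAlgX.minorIdeal M r ≠ ⊥} from h))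
    (not_le.mpr hk)

variable {R : Type u} [CommRing R] [IsNoetherianRing R]

/-- Acyclicity from the rank and depth conditions. -/
theorem ker_le_im (e : ℕ) (n : ℕ → ℕ) (A : (i : ℕ) → Matrix (Fin (n i)) (Fin (n (i + 1))) R)
    (hA : ∀ i, i + 2 ≤ e → A i * A (i + 1) = 0) (r : ℕ → ℕ) (hre : r e = 0)
    (hsum : ∀ i, i < e → r i + r (i + 1) = n (i + 1))
    (hrank : ∀ i, i < e → CAlgX.matrixRank (A i) = r i)
    (hdet : ∀ i, i < e → CAlgX.detIdeal (A i) = ⊤ ∨
      ∃ rs : List R, rs.length = i + 1 ∧ (∀ x ∈ rs, x ∈ CAlgX.detIdeal (A i)) ∧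
        RingTheory.Sequence.IsWeaklyRegular R rs) :
    ∀ i, i < e → LinearMap.ker (A i).mulVecLin ≤ im e A (i + 1) := by
  classical
  intro i hi
  induction hm : e - i using Nat.strong_induction_on generalizing i with
  | _ m ih =>
  intro v hv
  let J : Ideal R := (im e A (i + 1)).comap (LinearMap.toSpanSingleton R _ v)
  have hmemJ : ∀ t, t ∈ J ↔ t • v ∈ im e A (i + 1) := fun t => Iff.rfl
  suffices hJ : J = ⊤ by
    simpa using (hmemJ 1).mp (hJ ▸ trivial)
  by_contra hJ
  obtain ⟨M, hM, hJM⟩ := Ideal.exists_le_maximal J hJ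
  obtain ⟨P, hP, -⟩ := Ideal.exists_minimalPrimes_le hJM
  have hPp : P.IsPrime := hP.1.1
  let B := Localization.AtPrime P
  have : IsNoetherianRing B := IsLocalization.isNoetherianRing P.primeCompl B inferInstance
  set d := (depth B B).toNat with hd_def
  have hd : (d : ℕ∞) = depth B B := ENat.natCast_toNat (Assoc.depth_ne_top (R := B) B)
  have hsplit : ∀ j, j < e → d ≤ j → SplitRank (Loc.loc B A j) (r j) := by
    intro j hj hdj
    refine splitRank_of_minors ?_ ?_
    · rw [Loc.loc, Loc.minorIdeal_map]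
      have : ¬ CAlgX.minorIdeal (A j) (r j) ≤ P := by
        intro hle
        rcases hdet j hj with h | ⟨rs, hl, hmem, hreg⟩
        · rw [CAlgX.detIdeal, hrank j hj] at h
          exact hPp.ne_top (top_le_iff.mp (h ▸ hle))
        · rw [CAlgX.detIdeal, hrank j hj] at hmem
          have h1 := hreg.of_isLocalization B P.primeCompl
          have h2 := Basic.length_le_idealDepth (I := maximalIdeal B) h1 (fun x hx => by
            obtain ⟨y, hy, rfl⟩ := List.mem_map.mp hx
            rw [← Localization.AtPrime.map_eq_maximalIdeal]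
            exact Ideal.mem_map_of_mem _ (hle (hmem y hy)))
          rw [List.length_map, hl, ← depth, ← hd] at h2
          have := Nat.cast_le.mp h2
          omega
      obtain ⟨x, hx, hxP⟩ := SetLike.not_le_iff_exists.mp this
      exact Ideal.eq_top_of_isUnit_mem _ (Ideal.mem_map_of_mem _ hx)
        (IsLocalization.map_units B (⟨x, hxP⟩ : P.primeCompl))
    · rw [Loc.loc, Loc.minorIdeal_map, minorIdeal_eq_bot_of_rank_lt (A j) (by rw [hrank j hj]; omega),
        Ideal.map_bot]
  have hAB := Loc.complex_map (algebraMap R B) A hA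
  suffices hin : algebraMap R B ∘ v ∈ im e (Loc.loc B A) (i + 1) by
    obtain ⟨t, ht, htv⟩ := Loc.exists_of_mem_im B P.primeCompl A hin
    exact ht (hP.1.2 ((hmemJ t).mpr htv))
  have hvB : algebraMap R B ∘ v ∈ LinearMap.ker (Loc.loc B A i).mulVecLin := by
    rw [LinearMap.mem_ker, Matrix.mulVecLin_apply, Loc.mulVec_map]
    have : A i *ᵥ v = 0 := hv
    rw [this]
    exact funext fun j => map_zero _
  by_cases hid : d ≤ i
  · exact ker_le_im_of_split (Loc.loc B A) hAB r hre hsum hi (hsplit i hi hid)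
      (fun h => hsplit (i + 1) h (by omega)) hvB
  · have hdep := depth_coker (Loc.loc B A) hAB r hd.le hsplit (i + 1) hi fun j hj hje =>
      Loc.ker_le_im B P.primeCompl A (ih (e - j) (by omega) j hje rfl)
    rw [show min (i + 1) d = i + 1 by omega] at hdep
    by_contra hne
    have : Nontrivial ((Fin (n (i + 1)) → B) ⧸ im e (Loc.loc B A) (i + 1)) := by
      refine ⟨⟨Submodule.Quotient.mk (algebraMap R B ∘ v), 0, ?_⟩⟩
      rwa [Ne, Submodule.Quotient.mk_eq_zero]
    obtain ⟨x, hx, hreg, -⟩ := Basic.exists_isSMulRegular_of_succ_le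
      (Basic.smul_top_ne_top (R := B) (Ideal.IsPrime.ne_top' (I := maximalIdeal B))) hdep
    have hxr : x ∈ (J.map (algebraMap R B)).radical := by
      rw [Ideal.radical_eq_sInf, Submodule.mem_sInf]
      rintro Q ⟨hQ, hQp⟩
      have hQp : Ideal.IsPrime Q := hQp
      have h1 : Ideal.comap (algebraMap R B) Q ≤ P := by
        intro y hy
        by_contra hyP
        exact hQp.ne_top (Ideal.eq_top_of_isUnit_mem _ hy
          (IsLocalization.map_units B (⟨y, hyP⟩ : P.primeCompl)))
      have h2 : P ≤ Ideal.comap (algebraMap R B) Q :=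
        hP.2 ⟨hQp.comap _, Ideal.map_le_iff_le_comap.mp hQ⟩ h1
      rw [← Localization.AtPrime.map_eq_maximalIdeal] at hx
      exact Ideal.map_le_iff_le_comap.mpr h2 hx
    obtain ⟨N, hN⟩ := hxr
    have h3 : x ^ N • (algebraMap R B ∘ v) ∈ im e (Loc.loc B A) (i + 1) := by
      have : J.map (algebraMap R B) ≤
          (im e (Loc.loc B A) (i + 1)).comap (LinearMap.toSpanSingleton B _ (algebraMap R B ∘ v)) := by
        rw [Ideal.map_le_iff_le_comap]
        intro t ht
        have := Loc.mem_im_of_mem B P.primeCompl A ((hmemJ t).mp ht)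
        rw [Ideal.mem_comap, Submodule.mem_comap, LinearMap.toSpanSingleton_apply]
        convert this using 1
        funext j
        simp
      exact this hN
    rw [← Submodule.Quotient.mk_eq_zero, Submodule.Quotient.mk_smul] at h3
    exact hne ((Submodule.Quotient.mk_eq_zero _).mp
      ((hreg.pow N).right_eq_zero_of_smul h3))

end Groth.Agent.H80.BE.Suff
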